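import Groth.Agent.SemiampleFibLib.Factor
import Groth.Agent.ContractLib.Stein
import Groth.Agent.ProjFormLib.Proj
import Groth.Agent.AmpleDevLib.Pull
import Groth.Agent.VertIntLib.Pic
import Groth.Prelude.Def_ClSub2

/-!
# The fibre space of a semiample invertible module
-/

set_option autoImplicit false
set_option linter.style.haveILetI false
set_option linter.unusedSectionVars false
set_option backward.isDefEq.respectTransparency false
set_option backward.isDefEq.respectTransparency.types false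
set_option maxHeartbeats 1000000

universe u

open CategoryTheory CategoryTheory.Limits AlgebraicGeometry TopologicalSpace
open AmpleLib (GenOn GenAt res)
open KFlatLib (pb puSec)
open CubeConsLib (pull pull_cl cl cl_eq_iff cl_eq_one_iff pull_comp)

noncomputable section

namespace SemiampleFibLib

variable {X Y : Scheme.{u}}

/-- The unit is an isomorphism on invertible modules for a fibre space. -/
theorem isIso_unit_app (f : X ⟶ Y) (happ : ∀ U : Y.Opens, Function.Bijective (f.app U))
    {A : Y.Modules} (hA : PicF.IsInvertible A) :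
    IsIso ((Scheme.Modules.pullbackPushforwardAdjunction f).unit.app A) := by
  refine ProjFormLib.isIso_of_sections _ fun x => ?_
  obtain ⟨U, e, hxU, he⟩ := TwistLib.exists_genOn hA x
  refine ⟨U, hxU, fun V hV => ?_⟩
  have h1 := he V hV
  have h2 : Function.Bijective (fun r : Γ(X, f ⁻¹ᵁ V) => r • puSec f (res A hV e)) := by
    have hp := AmpleDevLib.puSec_genOn f he
    have h := hp (f ⁻¹ᵁ V) (f.preimage_mono hV)
    rwa [← TwistLib.puSec_res f hV e] at h
  refine (Function.Bijective.of_comp_iff _ h1).1 ?_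
  refine (congrArg Function.Bijective (funext fun r : Γ(Y, V) => ?_)).mpr (h2.comp (happ V))
  exact TwistLib.puSec_smul f r (res A hV e)

/-- Pullback along a fibre space is injective on invertible modules. -/
theorem cl_eq_of_pull_eq (f : X ⟶ Y) (happ : ∀ U : Y.Opens, Function.Bijective (f.app U))
    {A B : Y.Modules} (hA : PicF.IsInvertible A) (hB : PicF.IsInvertible B)
    (h : pull f (cl A) = pull f (cl B)) : cl A = cl B := by
  rw [pull_cl, pull_cl] at h
  obtain ⟨e⟩ := cl_eq_iff.1 h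
  haveI := isIso_unit_app f happ hA
  haveI := isIso_unit_app f happ hB
  exact cl_eq_iff.2 ⟨asIso ((Scheme.Modules.pullbackPushforwardAdjunction f).unit.app A) ≪≫
    (Scheme.Modules.pushforward f).mapIso e ≪≫
    (asIso ((Scheme.Modules.pullbackPushforwardAdjunction f).unit.app B)).symm⟩

/-- Line bundles with a common ample power descend along a fibre space. -/
theorem exists_descent {k : Type u} [Field k] {Z : Scheme.{u}} (q : X ⟶ Spec (CommRingCat.of k)) [IsProper q]
    (qY : Y ⟶ Spec (CommRingCat.of k)) [IsProper qY] (qZ : Z ⟶ Spec (CommRingCat.of k)) [IsProper qZ]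
    (f : X ⟶ Y) (g : X ⟶ Z) (hf : f ≫ qY = q) (hg : g ≫ qZ = q)
    (happ : ∀ U : Y.Opens, Function.Bijective (f.app U)) {A : Y.Modules} (hA : PicF.IsInvertible A)
    {C : Z.Modules} (hC : CohB1.IsAmple C) {a b : ℕ} (hb : 0 < b)
    (he : pull f (cl A) ^ a = pull g (cl C) ^ b) :
    ∃ h : Y ⟶ Z, f ≫ h = g ∧ h ≫ qZ = qY := by
  haveI : IsProper (f ≫ qY) := hf.symm ▸ ‹IsProper q›
  haveI : IsProper (g ≫ qZ) := hg.symm ▸ ‹IsProper q›
  haveI : IsProper f := IsProper.of_comp f qY
  haveI : IsProper g := IsProper.of_comp g qZ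
  haveI : CompactSpace X := QuasiCompact.compactSpace_of_compactSpace q
  haveI : IsLocallyNoetherian X := LocallyOfFiniteType.isLocallyNoetherian q
  haveI : IsNoetherian X := ⟨⟩
  haveI : CompactSpace Z := QuasiCompact.compactSpace_of_compactSpace qZ
  haveI : QuasiSeparatedSpace Z := quasiSeparatedSpace_of_quasiSeparated qZ
  refine exists_factor qY qZ f g (hf.trans hg.symm) happ fun y hy =>
    finite_image_fibre q f g (AmpleThLib.tensorPow_isInvertible hA a)
      ((AmpleThLib.isAmple_tensorPow_iff hC.1 hb).1 hC) ?_ hy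
  rw [VertIntLib.cl_tensorPow, VertIntLib.cl_tensorPow, map_pow, map_pow, he]

/-- The fibre space of a semiample invertible module. -/
theorem exists_fibreSpace {k : Type u} [Field k] [IsAlgClosed k] (q : X ⟶ Spec (CommRingCat.of k)) [IsProper q]
    [IsIntegral X] (hnor : ∀ x : X, IsIntegrallyClosed (X.presheaf.stalk x)) {L : X.Modules} (hL : PicF.IsInvertible L)
    (hsa : ∃ m : ℕ, 0 < m ∧ Curv2.IsGloballyGenerated (CohB1.tensorPow L m)) :
    ∃ (Y : Scheme.{u}) (g : Y ⟶ Spec (CommRingCat.of k)) (HY : Y.Modules) (φ : X ⟶ Y),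
      IsIntegral Y ∧ IsProper g ∧ CohB1.IsAmple HY ∧
      φ ≫ g = q ∧ Surjective φ ∧ IsIso (ClSub.unitToPush φ) ∧
      ∀ m : ℕ, 0 < m → Curv2.IsGloballyGenerated (CohB1.tensorPow L m) →
        ∃ A : Y.Modules, CohB1.IsAmple A ∧ Nonempty ((Scheme.Modules.pullback φ).obj A ≅ CohB1.tensorPow L m) := by
  haveI : CompactSpace X := QuasiCompact.compactSpace_of_compactSpace q
  haveI : IsLocallyNoetherian X := LocallyOfFiniteType.isLocallyNoetherian q
  haveI : IsNoetherian X := ⟨⟩
  obtain ⟨m₀, hm₀, hgg₀⟩ := hsa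
  obtain ⟨Y, hY, f, A, hfq, hYp, hfp, hfs, happ, hYi, -, -, hA, ⟨eA⟩⟩ :=
    ContractLib.exists_stein q hnor (AmpleThLib.tensorPow_isInvertible hL m₀) hgg₀
  haveI := hYp; haveI := hfp
  haveI : IsIso (ClSub.unitToPush f) := ProjFormLib.isIso_of_sections _ fun x => ⟨⊤, trivial, fun V _ => happ V⟩
  refine ⟨Y, hY, A, f, hYi, hYp, hA, hfq, hfs, inferInstance, fun m hm hgg => ?_⟩
  obtain ⟨Z, hZ, g, C, hgq, hZp, hgp, hgs, -, -, -, -, hC, ⟨eC⟩⟩ :=
    ContractLib.exists_stein q hnor (AmpleThLib.tensorPow_isInvertible hL m) hgg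
  haveI := hZp; haveI := hgp
  haveI : QuasiSeparatedSpace Z := quasiSeparatedSpace_of_quasiSeparated hZ
  haveI : QuasiSeparatedSpace Y := quasiSeparatedSpace_of_quasiSeparated hY
  haveI : CompactSpace Y := QuasiCompact.compactSpace_of_compactSpace hY
  haveI : CompactSpace Z := QuasiCompact.compactSpace_of_compactSpace hZ
  have he : pull f (cl (CohB1.tensorPow A m)) = pull g (cl (CohB1.tensorPow C m₀)) := by
    rw [VertIntLib.cl_tensorPow, VertIntLib.cl_tensorPow, map_pow, map_pow, pull_cl, pull_cl,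
      cl_eq_iff.2 ⟨eA⟩, cl_eq_iff.2 ⟨eC⟩, VertIntLib.cl_tensorPow, VertIntLib.cl_tensorPow, ← pow_mul, ← pow_mul,
      mul_comm]
  obtain ⟨h, hfh, -⟩ := exists_descent q hY hZ f g hfq hgq happ hA.1 hC hm₀ (a := m)
    (by rwa [VertIntLib.cl_tensorPow, VertIntLib.cl_tensorPow, map_pow, map_pow] at he)
  have hBi : PicF.IsInvertible ((Scheme.Modules.pullback h).obj C) := AmpleDevLib.isInvertible_pb h hC.1
  have hfB : pull f (cl ((Scheme.Modules.pullback h).obj C)) = cl (CohB1.tensorPow L m) := by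
    rw [← pull_cl, pull_comp, hfh, pull_cl, cl_eq_iff.2 ⟨eC⟩]
  refine ⟨(Scheme.Modules.pullback h).obj C, ?_, cl_eq_iff.1 ((pull_cl f _).symm.trans hfB)⟩
  rw [AmpleThLib.isAmple_tensorPow_iff hBi hm₀]
  have hAm : CohB1.IsAmple (CohB1.tensorPow A m) := (AmpleThLib.isAmple_tensorPow_iff hA.1 hm).1 hA
  obtain ⟨e⟩ : Nonempty (CohB1.tensorPow A m ≅ CohB1.tensorPow ((Scheme.Modules.pullback h).obj C) m₀) := by
    refine cl_eq_iff.1 (cl_eq_of_pull_eq f happ hAm.1 (AmpleThLib.tensorPow_isInvertible hBi m₀) ?_)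
    rw [he, VertIntLib.cl_tensorPow, VertIntLib.cl_tensorPow, map_pow, map_pow, hfB, pull_cl,
      cl_eq_iff.2 ⟨eC⟩]
  exact AmpleDevLib.isAmple_of_iso hAm.1 (AmpleThLib.tensorPow_isInvertible hBi m₀) e hAm

end SemiampleFibLib
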