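import Groth.Agent.SemiampleFibLib.Main
import Groth.Agent.GrowthLib.GlobGen
import Groth.Agent.GrowthLib.FieldBound
import Groth.Agent.MiscFlat6.AmpleGen
import Groth.Agent.EllLawLib.Cls

/-!
# The exponent of a semiample module and descent along its contraction
-/

set_option autoImplicit false
set_option linter.style.haveILetI false
set_option linter.unusedSectionVars false
set_option backward.isDefEq.respectTransparency false
set_option backward.isDefEq.respectTransparency.types false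
set_option maxHeartbeats 1000000

universe u

open CategoryTheory CategoryTheory.Limits AlgebraicGeometry TopologicalSpace
open CubeConsLib (pull pull_cl cl cl_tensor cl_eq_iff cl_eq_one_iff pull_comp)

noncomputable section

namespace SemiampleFibLib

variable (k : Type u) [Field k] {X Y : Scheme.{u}}
  [X.Over (Spec (CommRingCat.of k))] [Y.Over (Spec (CommRingCat.of k))]
  [IsProper (X ↘ Spec (CommRingCat.of k))] [IsProper (Y ↘ Spec (CommRingCat.of k))]

/-- A power descends exactly when the exponent divides it. -/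
theorem descends_iff_dvd (π : X ⟶ Y) (hover : π ≫ (Y ↘ Spec (CommRingCat.of k)) = X ↘ Spec (CommRingCat.of k))
    (hπ : ∀ U : Y.Opens, IsIso (π.app U))
    (L : X.Modules) (hL : PicF.IsInvertible L) (M : Y.Modules) (hM : PicF.IsInvertible M) (hMa : CohB1.IsAmple M)
    (m : ℕ) (hm : 0 < m) (e0 : Nonempty ((Scheme.Modules.pullback π).obj M ≅ CohB1.tensorPow L m))
    (d : ℕ)
    (hexp : ∃ m0 : ℕ, ∀ n : ℕ, m0 ≤ n → (Curv2.IsGloballyGenerated (CohB1.tensorPow L n) ↔ d ∣ n)) :
    ∀ e : ℕ, 0 < e →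
      ((∃ L' : Y.Modules, PicF.IsInvertible L' ∧ Nonempty ((Scheme.Modules.pullback π).obj L' ≅ CohB1.tensorPow L e)) ↔ d ∣ e) := by
  obtain ⟨m₀, hexp⟩ := hexp
  have hπM : pull π (cl M) = cl L ^ m := by rw [pull_cl, cl_eq_iff.2 e0, VertIntLib.cl_tensorPow]
  have gg_of : ∀ (N : Y.Modules) (n : ℕ), pull π (cl N) = cl L ^ n → Curv2.IsGloballyGenerated N →
      Curv2.IsGloballyGenerated (CohB1.tensorPow L n) := fun N n hN hgg => by
    rw [← VertIntLib.cl_tensorPow, pull_cl] at hN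
    exact GrowthLib.gg_of_iso (cl_eq_iff.1 hN).some (GrowthLib.gg_pb π hgg)
  -- the exponent divides `m`
  obtain ⟨t₁, -, ht₁⟩ := MiscFlat6.eventually_ample_globallyGenerated hMa (L' := Coh.structureModule Y)
    CurvLib.isInvertible_structureModule
  have hmul : ∀ t, t₁ ≤ t → m₀ ≤ t → d ∣ m * t := fun t ht ht' =>
    (hexp _ (ht'.trans (Nat.le_mul_of_pos_left t hm))).1 (gg_of _ _ (by
      rw [cl_tensor, cl_eq_one_iff.2 ⟨Iso.refl _⟩, mul_one, VertIntLib.cl_tensorPow, map_pow, hπM, ← pow_mul]) (ht₁ t ht).2)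
  have hdm : d ∣ m := by
    have h1 := hmul (max t₁ m₀) (le_max_left _ _) (le_max_right _ _)
    have h2 := hmul (max t₁ m₀ + 1) (by omega) (by omega)
    rw [Nat.mul_succ] at h2
    exact (Nat.dvd_add_right h1).1 h2
  intro e he
  refine ⟨?_, fun hde => ?_⟩
  · rintro ⟨L', hL', ⟨eL⟩⟩
    obtain ⟨t₂, -, ht₂⟩ := MiscFlat6.eventually_ample_globallyGenerated hMa hL'
    have h1 : d ∣ e + m * (t₂ + m₀) := (hexp _ (by
      have := Nat.le_mul_of_pos_left (t₂ + m₀) hm; omega)).1 (gg_of _ _ (by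
        rw [cl_tensor, map_mul, VertIntLib.cl_tensorPow, map_pow, hπM, pull_cl, cl_eq_iff.2 ⟨eL⟩,
          VertIntLib.cl_tensorPow, ← pow_mul, ← pow_add, add_comm]) (ht₂ (t₂ + m₀) (by omega)).2)
    exact (Nat.dvd_add_left (hdm.mul_right _)).1 h1
  · let n := e + m * m₀
    have hn : m₀ ≤ n := by have := Nat.le_mul_of_pos_left m₀ hm; omega
    have hgg := (hexp n hn).2 (dvd_add hde (hdm.mul_right _))
    obtain ⟨r, g, hg, ⟨eg⟩⟩ := GrowthLib.exists_toProjSpace k (AmpleThLib.tensorPow_isInvertible hL n) hgg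
    haveI : IsProper (CohB1.ProjSpace r k ↘ Spec (CommRingCat.of k)) := FormalCohLib.isProper_projToSpec r k
    have hC : CohB1.IsAmple (Twist.twistProjSpace r k 1) := FormalCohLib.isAmple_twistProjSpace r k
    obtain ⟨h, hh, -⟩ := exists_descent (X ↘ Spec (CommRingCat.of k)) (Y ↘ Spec (CommRingCat.of k))
      (CohB1.ProjSpace r k ↘ Spec (CommRingCat.of k)) π g hover hg
      (fun U => (ConcreteCategory.isIso_iff_bijective (π.app U)).1 (hπ U)) hM hC hm (a := n) (by
        rw [hπM, pull_cl, cl_eq_iff.2 ⟨eg⟩, VertIntLib.cl_tensorPow, ← pow_mul, ← pow_mul, mul_comm])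
    obtain ⟨M', hM', hMM⟩ := EllLawLib.exists_inv_rep hM
    refine ⟨CohB1.tensorMod ((Scheme.Modules.pullback h).obj (Twist.twistProjSpace r k 1)) (CohB1.tensorPow M' m₀),
      MiscFlat6.tensorMod_isInvertible (AmpleDevLib.isInvertible_pb h hC.1) (AmpleThLib.tensorPow_isInvertible hM' m₀),
      cl_eq_iff.1 ?_⟩
    rw [← pull_cl, cl_tensor, map_mul, VertIntLib.cl_tensorPow, VertIntLib.cl_tensorPow, ← pull_cl, pull_comp, hh,
      pull_cl, cl_eq_iff.2 ⟨eg⟩, VertIntLib.cl_tensorPow, map_pow, pow_add, pow_mul, mul_assoc, ← mul_pow, ← hπM,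
      ← map_mul, hMM, map_one, one_pow, mul_one]

end SemiampleFibLib
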