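import Groth.Agent.ContractLib.Constant
import Groth.Agent.SteinLib.EtaleMain
import Groth.Agent.AmpleDevLib.Components

/-!
# Factorisation through a fibre space of a morphism with finite images of fibres
-/

set_option autoImplicit false
set_option linter.style.haveILetI false
set_option linter.unusedSectionVars false
set_option backward.isDefEq.respectTransparency false
set_option backward.isDefEq.respectTransparency.types false
set_option maxHeartbeats 1000000

universe u

open CategoryTheory CategoryTheory.Limits AlgebraicGeometry TopologicalSpace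
open CubeConsLib (pull pull_cl cl cl_eq_iff cl_eq_one_iff pull_comp)

noncomputable section

namespace SemiampleFibLib

variable {X Y Z : Scheme.{u}}

/-- Only finitely many points lie over a closed point and a point. -/
theorem finite_fst_snd {k : Type u} [Field k] (qY : Y ⟶ Spec (CommRingCat.of k))
    (qZ : Z ⟶ Spec (CommRingCat.of k)) [IsProper qY] [IsProper qZ] {P : Scheme.{u}}
    (a : P ⟶ Y) (b : P ⟶ Z) (h : IsPullback a b qY qZ) {y : Y} (hy : IsClosed ({y} : Set Y)) (w : Z) :
    {p : P | a p = y ∧ b p = w}.Finite := by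
  set I := Scheme.IdealSheafData.vanishingIdeal (⟨{y}, hy⟩ : Closeds Y)
  have hr : Set.range I.subschemeι = {y} :=
    I.range_subschemeι.trans (by rw [Scheme.IdealSheafData.coe_support_vanishingIdeal]; rfl)
  haveI : Subsingleton I.subscheme := ⟨fun u v => I.subschemeι.isEmbedding.injective
    ((hr.le ⟨u, rfl⟩).trans (hr.le ⟨v, rfl⟩).symm)⟩
  haveI : LocallyQuasiFinite (I.subschemeι ≫ qY) := LocallyQuasiFinite.of_injective fun u v _ => Subsingleton.elim u v
  let c : pullback a I.subschemeι ⟶ Z := pullback.fst a I.subschemeι ≫ b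
  have hc : IsPullback (pullback.snd a I.subschemeι) c (I.subschemeι ≫ qY) qZ :=
    (IsPullback.of_hasPullback a I.subschemeι).flip.paste_vert h
  haveI : LocallyQuasiFinite c := MorphismProperty.of_isPullback (P := @LocallyQuasiFinite) hc inferInstance
  haveI : QuasiCompact c := MorphismProperty.of_isPullback (P := @QuasiCompact) hc inferInstance
  refine ((c.finite_preimage_singleton w).image (pullback.fst a I.subschemeι)).subset ?_
  rintro p ⟨hp, hp'⟩
  obtain ⟨v, rfl⟩ : p ∈ Set.range (pullback.fst a I.subschemeι) := by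
    rw [Scheme.Pullback.range_fst, hr]
    exact hp
  exact ⟨v, hp', rfl⟩

/-- Factorisation through a fibre space. -/
theorem exists_factor {k : Type u} [Field k] (qY : Y ⟶ Spec (CommRingCat.of k))
    (qZ : Z ⟶ Spec (CommRingCat.of k)) [IsProper qY] [IsProper qZ] (f : X ⟶ Y) (g : X ⟶ Z)
    (w : f ≫ qY = g ≫ qZ) [IsProper f] (happ : ∀ U : Y.Opens, Function.Bijective (f.app U))
    (hfin : ∀ y : Y, IsClosed ({y} : Set Y) → (g '' (f ⁻¹' {y})).Finite) :
    ∃ h : Y ⟶ Z, f ≫ h = g ∧ h ≫ qZ = qY := by
  let j : X ⟶ pullback qY qZ := pullback.lift f g w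
  have hj₁ : j ≫ pullback.fst qY qZ = f := pullback.lift_fst _ _ _
  have hj₂ : j ≫ pullback.snd qY qZ = g := pullback.lift_snd _ _ _
  haveI : IsProper j := by
    haveI : IsProper (j ≫ pullback.fst qY qZ) := by rw [hj₁]; infer_instance
    exact IsProper.of_comp j (pullback.fst qY qZ)
  let t := j.toImage
  let p : j.image ⟶ Y := j.imageι ≫ pullback.fst qY qZ
  have htp : t ≫ p = f := by rw [← Category.assoc, Scheme.Hom.toImage_imageι, hj₁]
  haveI : IsProper t := by
    haveI : IsProper (t ≫ j.imageι) := by rw [Scheme.Hom.toImage_imageι]; infer_instance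
    exact IsProper.of_comp t j.imageι
  haveI : Surjective t := ⟨fun z => (t.isClosedMap.isClosed_range.closure_eq.symm.trans
    t.denseRange.closure_range).ge (Set.mem_univ z)⟩
  haveI : IsProper p := inferInstance
  haveI : LocallyQuasiFinite p := by
    haveI : JacobsonSpace j.image :=
      LocallyOfFiniteType.jacobsonSpace (j.imageι ≫ pullback.fst qY qZ ≫ qY)
    rw [← Scheme.Hom.quasiFiniteLocus_eq_top_iff]
    refine Opens.ext (Set.eq_univ_of_forall fun z₀ => by_contra fun hz₀ => ?_)
    obtain ⟨z, hz, hzc⟩ := nonempty_inter_closedPoints (Z := ((p.quasiFiniteLocus : Set j.image))ᶜ) ⟨z₀, hz₀⟩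
      p.quasiFiniteLocus.2.isClosed_compl.isLocallyClosed
    refine hz (Scheme.Hom.mem_quasiFiniteLocus.2 (Scheme.Hom.quasiFiniteAt_iff_isOpen_singleton_asFiber.2 ?_))
    have hyc : IsClosed ({p z} : Set Y) := by simpa using p.isClosedMap _ hzc
    have hSc : IsClosed (p ⁻¹' {p z}) := hyc.preimage p.continuous
    have hfin' : (p ⁻¹' {p z}).Finite := by
      refine Set.Finite.subset (((hfin _ hyc).biUnion fun w _ =>
        finite_fst_snd qY qZ _ _ (IsPullback.of_hasPullback qY qZ) hyc w).preimage
          j.imageι.isClosedEmbedding.injective.injOn) ?_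
      intro v hv
      obtain ⟨x, rfl⟩ := t.surjective v
      refine Set.mem_biUnion (x := g x) ⟨x, ?_, rfl⟩ ⟨hv, ?_⟩
      · show f x = p z
        rw [← htp]
        exact hv
      · show pullback.snd qY qZ (j.imageι (t x)) = g x
        rw [← Scheme.Hom.comp_apply, ← Scheme.Hom.comp_apply, ← Category.assoc, Scheme.Hom.toImage_imageι, hj₂]
    have hall : (p ⁻¹' {p z}).Finite ∧ ∀ v ∈ p ⁻¹' {p z}, IsClosed ({v} : Set j.image) := by
      have hc := JacobsonSpace.closure_inter_closedPoints_eq_closure hSc.isLocallyClosed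
      have hS : (p ⁻¹' {p z} ∩ closedPoints j.image).Finite := hfin'.subset Set.inter_subset_left
      have hcl : IsClosed (p ⁻¹' {p z} ∩ closedPoints j.image) := by
        rw [← Set.biUnion_of_singleton (p ⁻¹' {p z} ∩ closedPoints j.image)]
        exact hS.isClosed_biUnion fun v hv => hv.2
      rw [hcl.closure_eq, hSc.closure_eq] at hc
      exact ⟨hfin', fun v hv => (hc.ge hv).2⟩
    haveI : Finite (p ⁻¹' {p z}) := hall.1.to_subtype
    haveI : T1Space (p ⁻¹' {p z}) := ⟨fun v => by
      have h1 : ({v} : Set (p ⁻¹' {p z})) = Subtype.val ⁻¹' {v.1} := by ext; simp [Subtype.ext_iff]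
      rw [h1]
      exact (hall.2 v.1 v.2).preimage continuous_subtype_val⟩
    haveI : DiscreteTopology (p.fiber (p z)) :=
      (p.fiberHomeo (p z)).isEmbedding.discreteTopology
    exact isOpen_discrete _
  haveI : IsFinite p := IsFinite.of_isProper_of_locallyQuasiFinite p
  haveI : IsIso p := SteinLib.isIso_of_isAffineHom_app p fun V _ => by
    have hc : p.app V ≫ t.app (p ⁻¹ᵁ V) = f.app V ≫ X.presheaf.map (eqToHom (by rw [← htp]; rfl)).op := by
      rw [← Scheme.Hom.comp_app, Scheme.Hom.congr_app htp]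
    have hb : Function.Bijective (p.app V ≫ t.app (p ⁻¹ᵁ V)) := by
      rw [hc]
      haveI : IsIso (f.app V) := (ConcreteCategory.isIso_iff_bijective _).2 (happ V)
      exact ConcreteCategory.bijective_of_isIso _
    have ht : Function.Injective (t.app (p ⁻¹ᵁ V)) :=
      TopCat.Presheaf.app_injective_of_stalkFunctor_map_injective (F := j.image.sheaf) t.c _ fun x _ =>
        j.stalkFunctor_toImage_injective x
    refine (ConcreteCategory.isIso_iff_bijective _).2 ⟨fun a b hab => hb.1 ?_, fun c => ?_⟩
    · show t.app _ (p.app V a) = t.app _ (p.app V b)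
      rw [hab]
    · obtain ⟨a, ha⟩ := hb.2 (t.app _ c)
      exact ⟨a, ht ha⟩
  refine ⟨inv p ≫ j.imageι ≫ pullback.snd qY qZ, ?_, ?_⟩
  · rw [← htp, Category.assoc, IsIso.hom_inv_id_assoc, ← Category.assoc, Scheme.Hom.toImage_imageι, hj₂]
  · rw [Category.assoc, IsIso.inv_comp_eq]
    simp only [p, Category.assoc, pullback.condition]

/-- Finite images of fibres, from comparable pullbacks. -/
theorem finite_image_fibre {k : Type u} [Field k] (q : X ⟶ Spec (CommRingCat.of k)) [IsProper q]
    [QuasiSeparatedSpace Z] [IsNoetherian X] (f : X ⟶ Y) (g : X ⟶ Z) [QuasiCompact f] [UniversallyClosed g]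
    {A : Y.Modules} (hA : PicF.IsInvertible A) {C : Z.Modules} (hC : CohB1.IsAmple C)
    (he : pull f (cl A) = pull g (cl C)) {y : Y} (hy : IsClosed ({y} : Set Y)) : (g '' (f ⁻¹' {y})).Finite := by
  obtain ⟨T, hT, hTc, hTi, he'⟩ := NoetherianSpace.exists_finite_set_isClosed_irreducible (hy.preimage f.continuous)
  rw [he', Set.sUnion_eq_biUnion, Set.image_iUnion₂]
  refine hT.biUnion fun S hS => ?_
  let I := Scheme.IdealSheafData.vanishingIdeal (⟨S, hTc S hS⟩ : Closeds X)
  haveI : IsIntegral I.subscheme := AmpleDevLib.isIntegral_vanishingIdeal ⟨S, hTc S hS⟩ (hTi S hS)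
  have hr : Set.range I.subschemeι = S :=
    I.range_subschemeι.trans (by rw [Scheme.IdealSheafData.coe_support_vanishingIdeal]; rfl)
  have hfy : ∀ z, (I.subschemeι ≫ f) z = y := fun z => by
    have h1 : I.subschemeι z ∈ f ⁻¹' {y} := he'.ge ⟨S, hS, hr.le ⟨z, rfl⟩⟩
    exact h1
  have htriv : Nonempty ((Scheme.Modules.pullback (I.subschemeι ≫ g)).obj C ≅ Coh.structureModule I.subscheme) := by
    rw [← cl_eq_one_iff, ← pull_cl, ← pull_comp, ← he, pull_comp, pull_cl, cl_eq_one_iff]
    exact ContractLib.pull_trivial_of_closed_point (I.subschemeι ≫ f) hy hfy hA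
  haveI : JacobsonSpace I.subscheme := LocallyOfFiniteType.jacobsonSpace (I.subschemeι ≫ q)
  obtain ⟨z, -, hz⟩ := nonempty_inter_closedPoints (Z := (Set.univ : Set I.subscheme)) Set.univ_nonempty
    isClosed_univ.isLocallyClosed
  have hzc : IsClosed ({(I.subschemeι ≫ g) z} : Set Z) := by
    simpa using (I.subschemeι ≫ g).isClosedMap _ hz
  refine (Set.finite_singleton ((I.subschemeι ≫ g) z)).subset ?_
  rintro _ ⟨x, hx, rfl⟩
  obtain ⟨v, rfl⟩ := hr.ge hx
  exact ContractLib.subsingleton_range_of_trivial (I.subschemeι ≫ q) (I.subschemeι ≫ g) hC htriv hzc v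

end SemiampleFibLib
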